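import Groth.Agent.K0Filt.Localization
import Groth.Agent.Devissage.PowSub
import Groth.Agent.RefStalk.Refl
import Groth.Agent.Horrocks.Koszul
import Groth.Agent.Devissage.Power
import Groth.Agent.GrT.TwistEpi

/-!
Coherent modules on an integral Noetherian scheme are quotients of torsion-free ones.
-/

set_option autoImplicit false
set_option linter.style.haveILetI false
set_option linter.unusedSectionVars false
set_option backward.isDefEq.respectTransparency false
set_option backward.isDefEq.respectTransparency.types false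

universe u

open CategoryTheory CategoryTheory.Limits AlgebraicGeometry TopologicalSpace Opposite
open Groth.Agent.QC Groth.Agent.WeakAssLib

noncomputable section

attribute [local instance] Abelian.hasFiniteBiproducts

namespace Groth.Agent.TorsFreeQuot

variable {X : Scheme.{u}} [IsNoetherian X]

/-- The map from the restricted structure module defined by a section. -/
def secMap (U : X.Opens) (F : X.Modules) (s : Γ(F.restrict U.ι, ⊤)) :
    (Coh.structureModule X).restrict U.ι ⟶ F.restrict U.ι :=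
  (Scheme.Modules.restrictFunctor U.ι).map
      (GrT.homOfSection ((Scheme.Modules.pushforward U.ι).obj (F.restrict U.ι)) s) ≫
    (Scheme.Modules.restrictAdjunction U.ι).counit.app (F.restrict U.ι)

theorem restrict_comp_app (U : X.Opens) {M N : X.Modules} {P : U.toScheme.Modules} (ψ : M ⟶ N)
    (c : (Scheme.Modules.restrictFunctor U.ι).obj N ⟶ P) (m : Γ(M, U.ι ''ᵁ ⊤)) :
    ((Scheme.Modules.restrictFunctor U.ι).map ψ ≫ c).app ⊤ m = c.app ⊤ (ψ.app (U.ι ''ᵁ ⊤) m) := rfl

theorem counit_app_res (U : X.Opens) (M : U.toScheme.Modules) (s : Γ(M, ⊤))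
    (h : U.ι ⁻¹ᵁ U.ι ''ᵁ ⊤ ≤ U.ι ⁻¹ᵁ ⊤) :
    M.presheaf.map (eqToHom (U.ι.preimage_image_eq ⊤).symm).op (M.presheaf.map (homOfLE h).op s) = s := by
  rw [← ConcreteCategory.comp_apply, ← Functor.map_comp]
  exact res_self M le_rfl s

theorem counit_app_sec (U : X.Opens) (M : U.toScheme.Modules)
    (s : Γ((Scheme.Modules.pushforward U.ι).obj M, ⊤)) :
    ((Scheme.Modules.restrictAdjunction U.ι).counit.app M).app ⊤
      ((GrT.homOfSection ((Scheme.Modules.pushforward U.ι).obj M) s).app (U.ι ''ᵁ ⊤) (1 : Γ(X, U.ι ''ᵁ ⊤))) =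
        (show Γ(M, ⊤) from s) := by
  have e : (GrT.homOfSection ((Scheme.Modules.pushforward U.ι).obj M) s).app (U.ι ''ᵁ ⊤) (1 : Γ(X, U.ι ''ᵁ ⊤)) =
      res ((Scheme.Modules.pushforward U.ι).obj M) (le_top : U.ι ''ᵁ ⊤ ≤ ⊤) s :=
    (GrT.homOfSection_app _ _ _ _).trans (one_smul _ _)
  refine (congrArg _ e).trans ?_
  exact counit_app_res U M s le_top

theorem secMap_app (U : X.Opens) (F : X.Modules) (s : Γ(F.restrict U.ι, ⊤)) :
    (secMap U F s).app ⊤ (1 : Γ(X, U.ι ''ᵁ ⊤)) = s :=
  (restrict_comp_app U _ _ _).trans (counit_app_sec U (F.restrict U.ι) s)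

/-- A section over an open is the image of a coherent ideal. -/
theorem exists_ideal (F : X.Modules) (hF : Coh.IsCoh F) (U : X.Opens) (s : Γ(F, U)) :
    ∃ (H : X.Modules) (a : H ⟶ Coh.structureModule X) (b : H ⟶ F), Mono a ∧ Coh.IsCoh H ∧
      ∀ (x : X) (hx : x ∈ U), mgerm F hx s ∈ Set.range (stalkHom b x) := by
  let R := Scheme.Modules.restrictFunctor U.ι
  have hU : U.ι ''ᵁ ⊤ = U := U.ι_image_top
  obtain ⟨G, p₁, p₂, hG, hp₁, he⟩ := K0Filt.exists_roof U (Coh.structureModule X) F (Devissage.isCoh_unit X) hF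
    (secMap U F (res F hU.le s))
  have hK : Coh.IsCoh (kernel p₁) := QC.isCoh_kernel hG (Devissage.isCoh_unit X).1 p₁
  have hz : IsZero (R.obj (kernel p₁)) := by
    haveI : Mono (R.map (kernel.ι p₁)) := inferInstance
    refine IsZero.of_mono_eq_zero (R.map (kernel.ι p₁)) ((cancel_mono (R.map p₁)).1 ?_)
    rw [← R.map_comp, kernel.condition, R.map_zero, zero_comp]
  have hsupp : CohB1.support (kernel p₁) ⊆ (⟨(U : Set X)ᶜ, U.2.isClosed_compl⟩ : Closeds X) := fun x hx hxU => by
    haveI : Coh.IsQCoh (kernel p₁) := hK.1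
    have h1 : (⟨x, hxU⟩ : U) ∈ CohB1.support ((Scheme.Modules.pullback U.ι).obj (kernel p₁)) := by
      rw [SupportLib.support_pullback U.ι _ hK.2]; exact hx
    exact K0Coh.support_of_isZero
      (hz.of_iso ((Scheme.Modules.restrictFunctorIsoPullback U.ι).app (kernel p₁)).symm) ∅ h1
  obtain ⟨H, i, hi, hH, hsep, hsurj⟩ := Devissage.exists_separated hG (kernel.ι p₁) hK.1 _ hsupp
  refine ⟨H, i ≫ p₁, i ≫ p₂, Preadditive.mono_of_cancel_zero _ fun {T} g hg => ?_, hH, fun x hx => ?_⟩
  · let k := kernel.lift p₁ (g ≫ i) (by rw [Category.assoc]; exact hg)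
    have hk : k ≫ kernel.ι p₁ = g ≫ i := kernel.lift_ι _ _ _
    apply Scheme.Modules.hom_ext
    intro W
    ext t
    exact hsep W (g.app W t) (k.app W t) (congr(($hk).app W t)).symm
  · obtain ⟨g0, hg0⟩ : ∃ g0 : Γ(G, U.ι ''ᵁ ⊤), p₁.app (U.ι ''ᵁ ⊤) g0 = (1 : Γ(X, U.ι ''ᵁ ⊤)) := by
      haveI : IsIso (R.map p₁) := hp₁
      refine ⟨(inv (R.map p₁)).app ⊤ (1 : Γ(X, U.ι ''ᵁ ⊤)), ?_⟩
      exact congr($(IsIso.inv_hom_id (R.map p₁)).app ⊤ (1 : Γ(X, U.ι ''ᵁ ⊤)))
    have h2 : p₂.app (U.ι ''ᵁ ⊤) g0 = res F hU.le s := by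
      refine (congr($(he).app ⊤ g0)).trans ?_
      show (secMap U F (res F hU.le s)).app ⊤ (p₁.app (U.ι ''ᵁ ⊤) g0) = _
      rw [hg0]
      exact secMap_app U F _
    have hxV : x ∈ U.ι ''ᵁ ⊤ := by rw [hU]; exact hx
    obtain ⟨h, hh⟩ := hsurj x (fun h => h hx) (mgerm G hxV g0)
    refine ⟨h, ?_⟩
    rw [Devissage.stalkHom_comp, hh, stalkHom_germ, h2]
    exact F.presheaf.germ_res_apply (homOfLE hU.le) x hxV s

theorem smul_eq_zero_of_ideal [IsIntegral X] {x : X} (a : X.presheaf.stalk x) (ha : a ≠ 0)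
    (m : (Coh.structureModule X).presheaf.stalk x) (h : a • m = 0) : m = 0 := by
  obtain ⟨e, -⟩ := RefStalk.exists_structStalk x
  obtain ⟨b, rfl⟩ := e.surjective m
  rw [← map_smul, e.map_eq_zero_iff, smul_eq_mul, mul_eq_zero] at h
  rw [h.resolve_left ha, map_zero]

/-- A coherent module is a quotient of a torsion-free coherent module. -/
theorem exists_epi [IsIntegral X] (F : X.Modules) (hF : Coh.IsCoh F) :
    ∃ (F' : X.Modules) (π : F' ⟶ F), Coh.IsCoh F' ∧
      (∀ y : X, NoZeroSMulDivisors ↥(X.presheaf.stalk y) ↥(F'.presheaf.stalk y)) ∧ Epi π := by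
  classical
  choose V hV hxV _ using fun x : X => exists_isAffineOpen_mem_and_subset (U := (⊤ : X.Opens)) (x := x) trivial
  obtain ⟨T, hT⟩ := isCompact_univ.elim_finite_subcover (fun x : X => (V x : Set X))
    (fun x => (V x).2) (fun x _ => Set.mem_iUnion.2 ⟨x, hxV x⟩)
  haveI : ∀ x : X, Module.Finite Γ(X, V x) Γ(F, V x) := fun x =>
    haveI : Coh.IsQCoh F := hF.1
    QC.finite_sections (M := F) (hV x) hF.2
  choose n s hs using fun x : X => Module.Finite.exists_fin (R := Γ(X, V x)) (M := Γ(F, V x))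
  choose H a b ha hH hb using fun p : Σ t : T, Fin (n t.1) => exists_ideal F hF (V p.1.1) (s p.1.1 p.2)
  let f := (Fintype.equivFin (Σ t : T, Fin (n t.1))).symm
  let O := fun _ : Fin (Fintype.card (Σ t : T, Fin (n t.1))) => Coh.structureModule X
  haveI : ∀ k, Mono (a (f k)) := fun k => ha _
  refine ⟨⨁ fun k => H (f k), biproduct.desc fun k => b (f k), Devissage.isCoh_biproduct _ fun k => hH _, fun y => ?_,
    Horrocks.epi_of_stalk _ fun y => ?_⟩
  · let S := DerSch.stalkFunctor X y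
    let μ : (⨁ fun k => H (f k)) ⟶ ⨁ O := biproduct.map fun k => a (f k)
    have hμ : Function.Injective (S.map μ).hom := (ModuleCat.mono_iff_injective _).1 inferInstance
    refine ⟨fun {c} {z} hcz => or_iff_not_imp_left.2 fun hc => hμ ?_⟩
    rw [map_zero]
    have hk : ∀ k, (S.map (biproduct.π O k)).hom ((S.map μ).hom z) = 0 := fun k =>
      smul_eq_zero_of_ideal c hc _ (by
        show c • (S.map (biproduct.π O k)).hom ((S.map μ).hom z) = 0
        rw [← map_smul, ← map_smul]
        exact (congrArg _ (congrArg _ hcz)).trans (by rw [map_zero, map_zero]))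
    have e : S.map μ = ∑ k, S.map μ ≫ S.map (biproduct.π O k) ≫ S.map (biproduct.ι O k) := by
      rw [← Preadditive.comp_sum]
      simp only [← S.map_comp]
      rw [← S.map_sum, biproduct.total, S.map_id, Category.comp_id]
    rw [e]
    simp only [ModuleCat.hom_sum, LinearMap.sum_apply]
    refine Finset.sum_eq_zero fun k _ => ?_
    show (S.map (biproduct.ι O k)).hom ((S.map (biproduct.π O k)).hom ((S.map μ).hom z)) = 0
    rw [hk, map_zero]
  · obtain ⟨x, hx, hyx⟩ : ∃ x ∈ T, y ∈ V x := by simpa using hT (Set.mem_univ y)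
    intro t
    let Pi := biproduct.desc fun k => b (f k)
    let L : _ →ₗ[X.presheaf.stalk y] _ := ((DerSch.stalkFunctor X y).map Pi).hom
    have key : Submodule.span (X.presheaf.stalk y) (Set.range fun i => mgerm F hyx (s x i)) ≤ LinearMap.range L := by
      refine Submodule.span_le.2 ?_
      rintro _ ⟨i, rfl⟩
      obtain ⟨h, hh⟩ := hb ⟨⟨x, hx⟩, i⟩ y hyx
      have hstep : ∀ p (h : (H p).presheaf.stalk y), ∃ z, stalkHom Pi y z = stalkHom (b p) y h := fun p => by
        obtain ⟨k, rfl⟩ := f.surjective p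
        intro h
        refine ⟨stalkHom (biproduct.ι (fun k => H (f k)) k) y h, ?_⟩
        rw [← Devissage.stalkHom_comp, biproduct.ι_desc]
      obtain ⟨z, hz⟩ := hstep _ h
      exact ⟨z, hz.trans hh⟩
    exact key (by rw [LocFree.span_germ (hV x) hF.1 hyx (s x) (hs x)]; trivial)

end Groth.Agent.TorsFreeQuot
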